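import Groth.Agent.Lib.CI2.Ops
import Mathlib.LinearAlgebra.Determinant

/-!
The colon of a Koszul regular ideal by a bigger ideal with as many generators.
-/

set_option autoImplicit false
set_option linter.style.haveILetI false
universe u

open Groth.Agent.CanElt (KObj kd k0)

noncomputable section

namespace Groth.Agent.KoszulColon25

variable {Q : Type u} [CommRing Q]

/-- The value of a coefficient vector on a list. -/
def ev : List Q → (ℕ → Q) → Q
  | [], _ => 0
  | g :: l, v => v 0 * g + ev l fun i => v (i + 1)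

/-- Multiplication by a vector on the Koszul complex. -/
def sM : ∀ (l : List Q) (_ : ℕ → Q) (k : ℕ), KObj Q Q l k →ₗ[Q] KObj Q Q l (k + 1)
  | [], _, _ => 0
  | _ :: l, v, 0 => (sM l (fun i => v (i + 1)) 0).prod (v 0 • LinearMap.id)
  | _ :: l, v, k + 1 =>
    ((sM l (fun i => v (i + 1)) (k + 1)).comp (LinearMap.fst Q _ _)).prod
      (v 0 • LinearMap.fst Q _ _ - (sM l (fun i => v (i + 1)) k).comp (LinearMap.snd Q _ _))

theorem sM_zero_apply (g : Q) (l : List Q) (v : ℕ → Q) (x : KObj Q Q l 0) :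
    sM (g :: l) v 0 x = (sM l (fun i => v (i + 1)) 0 x, v 0 • x) := rfl

theorem sM_succ_apply (g : Q) (l : List Q) (v : ℕ → Q) (k : ℕ) (a : KObj Q Q l (k + 1)) (b : KObj Q Q l k) :
    sM (g :: l) v (k + 1) (a, b) =
      (sM l (fun i => v (i + 1)) (k + 1) a, v 0 • a - sM l (fun i => v (i + 1)) k b) := rfl

theorem kd_sM_zero : ∀ (l : List Q) (v : ℕ → Q) (x : KObj Q Q l 0),
    kd Q Q l 0 (sM l v 0 x) = ev l v • x
  | [], v, x => (zero_smul Q x).symm
  | g :: l, v, x => by
    rw [sM_zero_apply, CanElt.kd_zero_apply, kd_sM_zero l]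
    change ev l (fun i => v (i + 1)) • x + g • v 0 • x = (v 0 * g + ev l fun i => v (i + 1)) • x
    rw [smul_smul, add_smul, mul_comm g, add_comm]

theorem kd_sM : ∀ (l : List Q) (v : ℕ → Q) (k : ℕ) (x : KObj Q Q l (k + 1)),
    kd Q Q l (k + 1) (sM l v (k + 1) x) + sM l v k (kd Q Q l k x) = ev l v • x
  | [], v, k, x => Subsingleton.elim (h := inferInstanceAs (Subsingleton PUnit)) _ _
  | g :: l, v, 0, (a, b) => by
    rw [sM_succ_apply, CanElt.kd_succ_apply, CanElt.kd_zero_apply, sM_zero_apply]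
    have h1 := kd_sM l (fun i => v (i + 1)) 0 a
    have h2 := kd_sM_zero l (fun i => v (i + 1)) b
    refine Prod.ext ?_ ?_
    · change kd Q Q l 1 (sM l _ 1 a) + g • (v 0 • a - sM l _ 0 b) + sM l _ 0 (kd Q Q l 0 a + g • b) =
        (v 0 * g + ev l fun i => v (i + 1)) • a
      rw [map_add, map_smul, add_smul, ← h1]
      module
    · change -kd Q Q l 0 (v 0 • a - sM l _ 0 b) + v 0 • (kd Q Q l 0 a + g • b) =
        (v 0 * g + ev l fun i => v (i + 1)) • b
      rw [map_sub, map_smul, add_smul, ← h2]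
      module
  | g :: l, v, k + 1, (a, b) => by
    rw [sM_succ_apply, CanElt.kd_succ_apply, CanElt.kd_succ_apply, sM_succ_apply]
    have h1 := kd_sM l (fun i => v (i + 1)) (k + 1) a
    have h2 := kd_sM l (fun i => v (i + 1)) k b
    refine Prod.ext ?_ ?_
    · change kd Q Q l (k + 2) (sM l _ (k + 2) a) + g • (v 0 • a - sM l _ (k + 1) b) +
          sM l _ (k + 1) (kd Q Q l (k + 1) a + g • b) = (v 0 * g + ev l fun i => v (i + 1)) • a
      rw [map_add, map_smul, add_smul, ← h1]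
      module
    · change -kd Q Q l (k + 1) (v 0 • a - sM l _ (k + 1) b) +
          (v 0 • (kd Q Q l (k + 1) a + g • b) - sM l _ k (-kd Q Q l k b)) =
        (v 0 * g + ev l fun i => v (i + 1)) • b
      rw [map_sub, map_smul, map_neg, add_smul, ← h2]
      module

theorem sM_sM : ∀ (l : List Q) (v : ℕ → Q) (k : ℕ) (x : KObj Q Q l k), sM l v (k + 1) (sM l v k x) = 0
  | [], v, k, x => rfl
  | g :: l, v, 0, x => by
    rw [sM_zero_apply, sM_succ_apply, map_smul, sub_self, sM_sM l]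
    rfl
  | g :: l, v, k + 1, (a, b) => by
    rw [sM_succ_apply, sM_succ_apply, map_sub, map_smul, sM_sM l, sM_sM l, sub_zero, sub_self]
    rfl

theorem sM_add : ∀ (l : List Q) (v w : ℕ → Q) (k : ℕ) (x : KObj Q Q l k),
    sM l (v + w) k x = sM l v k x + sM l w k x
  | [], v, w, k, x => (add_zero _).symm
  | g :: l, v, w, 0, x => Prod.ext (sM_add l _ _ 0 x) (add_smul (v 0) (w 0) x)
  | g :: l, v, w, k + 1, (a, b) => by
    refine Prod.ext (sM_add l _ _ (k + 1) a) ?_
    change (v 0 + w 0) • a - sM l ((fun i => v (i + 1)) + fun i => w (i + 1)) k b =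
      (v 0 • a - sM l _ k b) + (w 0 • a - sM l _ k b)
    rw [sM_add l, add_smul]
    module

theorem sM_smul : ∀ (l : List Q) (r : Q) (v : ℕ → Q) (k : ℕ) (x : KObj Q Q l k),
    sM l (r • v) k x = r • sM l v k x
  | [], r, v, k, x => (smul_zero r).symm
  | g :: l, r, v, 0, x => Prod.ext (sM_smul l r _ 0 x) (mul_smul r (v 0) x)
  | g :: l, r, v, k + 1, (a, b) => by
    refine Prod.ext (sM_smul l r _ (k + 1) a) ?_
    change (r * v 0) • a - sM l (r • fun i => v (i + 1)) k b = r • (v 0 • a - sM l _ k b)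
    rw [sM_smul l, smul_sub, mul_smul]

theorem sM_swap (l : List Q) (v w : ℕ → Q) (k : ℕ) (x : KObj Q Q l k) :
    sM l v (k + 1) (sM l w k x) = -sM l w (k + 1) (sM l v k x) := by
  have h := sM_sM l (v + w) k x
  rw [sM_add, sM_add, map_add, map_add, sM_sM, sM_sM, zero_add, add_zero] at h
  exact eq_neg_of_add_eq_zero_left h

/-- A list from a tuple. -/
def fl : ∀ (m : ℕ), (Fin m → Q) → List Q
  | 0, _ => []
  | m + 1, f => f 0 :: fl m (Fin.tail f)

theorem fl_eq : ∀ (m : ℕ) (f : Fin m → Q), fl m f = List.ofFn f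
  | 0, f => rfl
  | m + 1, f => by rw [List.ofFn_succ, fl, fl_eq m]; rfl

/-- Extension of a tuple by zero. -/
def ext : ∀ (m : ℕ), (Fin m → Q) → ℕ → Q
  | 0, _ => fun _ => 0
  | _ + 1, v => fun i => Nat.casesOn i (v 0) (ext _ (Fin.tail v))

theorem ext_add : ∀ (m : ℕ) (v w : Fin m → Q), ext m (v + w) = ext m v + ext m w
  | 0, v, w => funext fun _ => (add_zero 0).symm
  | m + 1, v, w => funext fun i => by
    cases i with
    | zero => rfl
    | succ i => exact congrFun (ext_add m (Fin.tail v) (Fin.tail w)) i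

theorem ext_smul : ∀ (m : ℕ) (r : Q) (v : Fin m → Q), ext m (r • v) = r • ext m v
  | 0, r, v => funext fun _ => (mul_zero r).symm
  | m + 1, r, v => funext fun i => by
    cases i with
    | zero => rfl
    | succ i => exact congrFun (ext_smul m r (Fin.tail v)) i

theorem ev_ext : ∀ (m : ℕ) (g v : Fin m → Q), ev (fl m g) (ext m v) = ∑ i, v i * g i
  | 0, g, v => rfl
  | m + 1, g, v => by
    rw [Fin.sum_univ_succ]
    exact congrArg (v 0 * g 0 + ·) (ev_ext m (Fin.tail g) (Fin.tail v))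

/-- The generator in top degree. -/
def ω : ∀ (m : ℕ) (f : Fin m → Q), KObj Q Q (fl m f) m
  | 0, _ => (1 : Q)
  | m + 1, f => ((0, ω m (Fin.tail f)) : KObj Q Q (fl m (Fin.tail f)) (m + 1) × KObj Q Q (fl m (Fin.tail f)) m)

/-- The coefficient in top degree. -/
def τ : ∀ (m : ℕ) (f : Fin m → Q), KObj Q Q (fl m f) m →ₗ[Q] Q
  | 0, _ => LinearMap.id
  | m + 1, f => (τ m (Fin.tail f)).comp (LinearMap.snd Q _ _)

theorem τ_ω : ∀ (m : ℕ) (f : Fin m → Q), τ m f (ω m f) = 1
  | 0, _ => rfl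
  | m + 1, f => τ_ω m (Fin.tail f)

theorem subsingleton_above (m : ℕ) (f : Fin m → Q) : Subsingleton (KObj Q Q (fl m f) (m + 1)) :=
  CanElt.subsingleton_KObj Q Q _ _ (by rw [fl_eq, List.length_ofFn]; exact Nat.lt_succ_self m)

theorem eq_τ_smul : ∀ (m : ℕ) (f : Fin m → Q) (x : KObj Q Q (fl m f) m), x = τ m f x • ω m f
  | 0, f, x => (mul_one (show Q from x)).symm
  | m + 1, f, (a, b) => by
    haveI := subsingleton_above m (Fin.tail f)
    exact Prod.ext (Subsingleton.elim _ _) (eq_τ_smul m (Fin.tail f) b)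

/-- The comparison map of Koszul complexes given by rows of coefficients. -/
def φ (lg : List Q) : ∀ (m : ℕ) (f : Fin m → Q) (_ : Fin m → ℕ → Q) (k : ℕ),
    KObj Q Q (fl m f) k →ₗ[Q] KObj Q Q lg k
  | 0, _, _, 0 => (k0 Q Q lg).symm.toLinearMap
  | 0, _, _, _ + 1 => 0
  | m + 1, f, v, 0 => φ lg m (Fin.tail f) (Fin.tail v) 0
  | m + 1, f, v, k + 1 =>
    (φ lg m (Fin.tail f) (Fin.tail v) (k + 1)).comp (LinearMap.fst Q _ _) +
      ((sM lg (v 0) k).comp (φ lg m (Fin.tail f) (Fin.tail v) k)).comp (LinearMap.snd Q _ _)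

theorem φ_kd (lg : List Q) : ∀ (m : ℕ) (f : Fin m → Q) (v : Fin m → ℕ → Q) (_ : ∀ i, ev lg (v i) = f i)
    (k : ℕ) (z : KObj Q Q (fl m f) (k + 1)),
    kd Q Q lg k (φ lg m f v (k + 1) z) = φ lg m f v k (kd Q Q (fl m f) k z)
  | 0, f, v, _, k, z => by
    change kd Q Q lg k 0 = φ lg 0 f v k ((0 : KObj Q Q ([] : List Q) (k + 1) →ₗ[Q] KObj Q Q ([] : List Q) k) z)
    rw [map_zero, LinearMap.zero_apply]
    exact (map_zero (φ lg 0 f v k)).symm
  | m + 1, f, v, hv, 0, (a, b) => by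
    change kd Q Q lg 0 (φ lg m _ _ 1 a + sM lg (v 0) 0 (φ lg m _ _ 0 b)) =
      φ lg m (Fin.tail f) (Fin.tail v) 0 (kd Q Q (fl m (Fin.tail f)) 0 a + f 0 • b)
    rw [map_add, map_add, map_smul, φ_kd lg m (Fin.tail f) (Fin.tail v) (fun i => hv i.succ) 0 a, kd_sM_zero, hv 0]
  | m + 1, f, v, hv, k + 1, (a, b) => by
    change kd Q Q lg (k + 1) (φ lg m _ _ (k + 2) a + sM lg (v 0) (k + 1) (φ lg m _ _ (k + 1) b)) =
      φ lg m (Fin.tail f) (Fin.tail v) (k + 1) (kd Q Q (fl m (Fin.tail f)) (k + 1) a + f 0 • b) +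
        sM lg (v 0) k (φ lg m _ _ k (-kd Q Q (fl m (Fin.tail f)) k b))
    rw [map_add, map_add, map_smul, map_neg, map_neg, φ_kd lg m (Fin.tail f) (Fin.tail v) (fun i => hv i.succ) (k + 1) a,
      ← φ_kd lg m (Fin.tail f) (Fin.tail v) (fun i => hv i.succ) k b, ← hv 0, ← kd_sM lg (v 0) k (φ lg m _ _ (k + 1) b)]
    module

theorem φ_zero (lg : List Q) : ∀ (m : ℕ) (f : Fin m → Q) (v : Fin m → ℕ → Q) (x : KObj Q Q (fl m f) 0),
    k0 Q Q lg (φ lg m f v 0 x) = k0 Q Q (fl m f) x
  | 0, _, _, x => (k0 Q Q lg).apply_symm_apply x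
  | m + 1, f, v, x => φ_zero lg m (Fin.tail f) (Fin.tail v) x

/-- The product of vectors applied to the unit. -/
def wedge {n : ℕ} (g : Fin n → Q) : ∀ (m : ℕ), (Fin m → Fin n → Q) → KObj Q Q (fl n g) m
  | 0, _ => (k0 Q Q (fl n g)).symm 1
  | m + 1, v => sM (fl n g) (ext n (v 0)) m (wedge g m (Fin.tail v))

theorem φ_ω {n : ℕ} (g : Fin n → Q) : ∀ (m : ℕ) (f : Fin m → Q) (v : Fin m → Fin n → Q),
    φ (fl n g) m f (fun i => ext n (v i)) m (ω m f) = wedge g m v
  | 0, _, _ => rfl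
  | m + 1, f, v => by
    change φ (fl n g) m _ _ (m + 1) 0 + sM (fl n g) (ext n (v 0)) m
      (φ (fl n g) m (Fin.tail f) (fun i => ext n (Fin.tail v i)) m (ω m (Fin.tail f))) = _
    rw [map_zero, zero_add, φ_ω g m]
    rfl

theorem sM_wedge_eq_zero {n : ℕ} (g : Fin n → Q) : ∀ (m : ℕ) (v : Fin m → Fin n → Q) (j : Fin m),
    sM (fl n g) (ext n (v j)) m (wedge g m v) = 0
  | 0, _, j => j.elim0
  | m + 1, v, j => by
    change sM (fl n g) (ext n (v j)) (m + 1) (sM (fl n g) (ext n (v 0)) m (wedge g m (Fin.tail v))) = 0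
    rcases Fin.eq_zero_or_eq_succ j with rfl | ⟨i, rfl⟩
    · exact sM_sM _ _ _ _
    · rw [sM_swap, show v i.succ = Fin.tail v i from rfl, sM_wedge_eq_zero g m _ i, map_zero, neg_zero]

theorem wedge_update_add {n : ℕ} (g : Fin n → Q) : ∀ (m : ℕ) (v : Fin m → Fin n → Q) (j : Fin m) (x y : Fin n → Q),
    wedge g m (Function.update v j (x + y)) = wedge g m (Function.update v j x) + wedge g m (Function.update v j y)
  | 0, _, j, _, _ => j.elim0
  | m + 1, v, j, x, y => by
    rcases Fin.eq_zero_or_eq_succ j with rfl | ⟨i, rfl⟩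
    · simp only [wedge, Function.update_self, Fin.tail_update_zero, ext_add, sM_add]
    · simp only [wedge, Fin.tail_update_succ, Function.update_of_ne (Fin.succ_ne_zero i).symm,
        wedge_update_add g m _ i, map_add]

theorem wedge_update_smul {n : ℕ} (g : Fin n → Q) : ∀ (m : ℕ) (v : Fin m → Fin n → Q) (j : Fin m) (r : Q) (x : Fin n → Q),
    wedge g m (Function.update v j (r • x)) = r • wedge g m (Function.update v j x)
  | 0, _, j, _, _ => j.elim0
  | m + 1, v, j, r, x => by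
    rcases Fin.eq_zero_or_eq_succ j with rfl | ⟨i, rfl⟩
    · simp only [wedge, Function.update_self, Fin.tail_update_zero, ext_smul, sM_smul]
    · simp only [wedge, Fin.tail_update_succ, Function.update_of_ne (Fin.succ_ne_zero i).symm,
        wedge_update_smul g m _ i, map_smul]

theorem wedge_eq_zero {n : ℕ} (g : Fin n → Q) : ∀ (m : ℕ) (v : Fin m → Fin n → Q) (i j : Fin m),
    v i = v j → i ≠ j → wedge g m v = 0
  | 0, _, i, _, _, _ => i.elim0
  | m + 1, v, i, j, hv, hij => by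
    rcases Fin.eq_zero_or_eq_succ i with rfl | ⟨i, rfl⟩
    · rcases Fin.eq_zero_or_eq_succ j with rfl | ⟨j, rfl⟩
      · exact absurd rfl hij
      · rw [wedge, hv]; exact sM_wedge_eq_zero g m (Fin.tail v) j
    · rcases Fin.eq_zero_or_eq_succ j with rfl | ⟨j, rfl⟩
      · rw [wedge, ← hv]; exact sM_wedge_eq_zero g m (Fin.tail v) i
      · rw [wedge, wedge_eq_zero g m (Fin.tail v) i j hv (fun h => hij (h ▸ rfl)), map_zero]

theorem exists_τ_wedge_eq_det_mul {n : ℕ} (g : Fin n → Q) :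
    ∃ e : Q, ∀ c : Matrix (Fin n) (Fin n) Q, τ n g (wedge g n c) = c.det * e := by
  let G : (Fin n → Q) [⋀^Fin n]→ₗ[Q] Q :=
    { toFun := fun v => τ n g (wedge g n v)
      map_update_add' := fun {inst} v i x y => by
        rw [Subsingleton.elim inst (instDecidableEqFin n)]
        rw [wedge_update_add, map_add]
      map_update_smul' := fun {inst} v i r x => by
        rw [Subsingleton.elim inst (instDecidableEqFin n)]
        rw [wedge_update_smul, map_smul]
      map_eq_zero_of_eq' := fun v i j hv hij => by rw [wedge_eq_zero g n v i j hv hij, map_zero] }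
  refine ⟨G (Pi.basisFun Q (Fin n)), fun c => ?_⟩
  change G c = _
  conv_lhs => rw [G.eq_smul_basis_det (Pi.basisFun Q (Fin n))]
  rw [AlternatingMap.smul_apply, Pi.basisFun_det, smul_eq_mul, mul_comm]
  rfl

/-- The colon of a Koszul regular ideal `(f)` by a bigger ideal `(g)` lies in `(f) + (det c)` where `f = c g`. -/
theorem mem_sup_span_det {n : ℕ} (f g : Fin n → Q) (c : Matrix (Fin n) (Fin n) Q) (hc : ∀ i, f i = ∑ j, c i j * g j)
    (hf : CI2.Ex Q Q (List.ofFn f)) {a : Q} (ha : ∀ j, a * g j ∈ Ideal.span (Set.range f)) :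
    a ∈ Ideal.span (Set.range f) ⊔ Ideal.span {c.det} := by
  rw [← fl_eq] at hf
  let lf := fl n f
  let lg := fl n g
  have hlf : Ideal.ofList lf = Ideal.span (Set.range f) := by
    rw [show lf = List.ofFn f from fl_eq n f]
    exact congrArg Ideal.span (by ext x; simp [List.mem_ofFn])
  have hlg : Ideal.ofList lg = Ideal.span (Set.range g) := by
    rw [show lg = List.ofFn g from fl_eq n g]
    exact congrArg Ideal.span (by ext x; simp [List.mem_ofFn])
  -- the chain map from the Koszul complex of `g` lifting multiplication by `a`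
  let P : ∀ k, (KObj Q Q lg k →ₗ[Q] KObj Q Q lf k) → Prop := fun k p =>
    ∀ z, p (kd Q Q lg k z) ∈ LinearMap.range (kd Q Q lf k)
  have hp0 : P 0 ((k0 Q Q lf).symm.toLinearMap.comp (a • (k0 Q Q lg).toLinearMap)) := by
    intro z
    rw [CanElt.mem_range_kd_zero]
    simp only [LinearMap.comp_apply, LinearEquiv.coe_coe, LinearEquiv.apply_symm_apply, LinearMap.smul_apply]
    have h := (CanElt.mem_range_kd_zero Q Q lg _).1 ⟨z, rfl⟩
    simp only [smul_eq_mul, Ideal.mul_top, hlf, hlg] at h ⊢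
    refine Submodule.span_induction (p := fun y _ => a * y ∈ _) ?_ ?_ ?_ ?_ h
    · rintro _ ⟨j, rfl⟩; exact ha j
    · rw [mul_zero]; exact zero_mem _
    · intro x y _ _ hx hy; rw [mul_add]; exact add_mem hx hy
    · intro r x _ hx; rw [smul_eq_mul, mul_left_comm]; exact Ideal.mul_mem_left _ _ hx
  have hstep : ∀ k (p : { p // P k p }), ∃ p' : { p' // P (k + 1) p' },
      ∀ z, kd Q Q lf k (p'.1 z) = p.1 (kd Q Q lg k z) := by
    rintro k ⟨p, hp⟩
    haveI := CanElt.projective_KObj Q Q lg (k + 1)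
    obtain ⟨p', hp'⟩ := Module.projective_lifting_property (kd Q Q lf k).rangeRestrict
      ((p.comp (kd Q Q lg k)).codRestrict _ hp) (kd Q Q lf k).surjective_rangeRestrict
    have hcomm : ∀ z, kd Q Q lf k (p' z) = p (kd Q Q lg k z) := fun z =>
      congrArg Subtype.val (LinearMap.congr_fun hp' z)
    refine ⟨⟨p', fun z => ?_⟩, hcomm⟩
    obtain ⟨w, hw⟩ := hf k (p' (kd Q Q lg (k + 1) z)) (by rw [hcomm, CanElt.kd_kd, map_zero])
    exact ⟨w, hw⟩
  choose next hnext using hstep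
  let ψs : ∀ k, { p // P k p } := fun k => Nat.rec ⟨_, hp0⟩ next k
  let ψ : ∀ k, KObj Q Q lg k →ₗ[Q] KObj Q Q lf k := fun k => (ψs k).1
  have hψ : ∀ k z, kd Q Q lf k (ψ (k + 1) z) = ψ k (kd Q Q lg k z) := fun k => hnext k (ψs k)
  let v : Fin n → ℕ → Q := fun i => ext n (c i)
  have hv : ∀ i, ev lg (v i) = f i := fun i => by rw [ev_ext, hc]
  let θ : ∀ k, KObj Q Q lf k →ₗ[Q] KObj Q Q lf k := fun k =>
    (ψ k).comp (φ lg n f v k) - a • LinearMap.id
  have hθ : ∀ k z, kd Q Q lf k (θ (k + 1) z) = θ k (kd Q Q lf k z) := fun k z => by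
    simp only [θ, LinearMap.sub_apply, LinearMap.comp_apply, LinearMap.smul_apply, LinearMap.id_apply, map_sub,
      map_smul, hψ, φ_kd lg n f v hv]
    rfl
  have hθ0 : ∀ x, θ 0 x = 0 := fun x => by
    apply (k0 Q Q lf).injective
    simp [θ, ψ, ψs, φ_zero, lf]
  have hom : ∀ k, ∃ h : KObj Q Q lf k →ₗ[Q] KObj Q Q lf (k + 1),
      ∀ z, kd Q Q lf k (θ (k + 1) z - h (kd Q Q lf k z)) = 0 := by
    intro k
    induction k with
    | zero => exact ⟨0, fun z => by rw [LinearMap.zero_apply, sub_zero, hθ, hθ0]⟩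
    | succ k ih =>
      obtain ⟨h, hh⟩ := ih
      haveI := CanElt.projective_KObj Q Q lf (k + 1)
      obtain ⟨h', hh'⟩ := Module.projective_lifting_property (kd Q Q lf (k + 1)).rangeRestrict
        ((θ (k + 1) - h.comp (kd Q Q lf k)).codRestrict _ fun z => hf k _ (hh z))
        (kd Q Q lf (k + 1)).surjective_rangeRestrict
      refine ⟨h', fun z => ?_⟩
      have h1 := congrArg Subtype.val (LinearMap.congr_fun hh' (kd Q Q lf (k + 1) z))
      change kd Q Q lf (k + 1) (h' _) = θ (k + 1) _ - h (kd Q Q lf k _) at h1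
      rw [map_sub, h1, CanElt.kd_kd, map_zero, sub_zero, hθ, sub_self]
  obtain ⟨e, he⟩ := exists_τ_wedge_eq_det_mul g
  have key : τ n f (θ n (ω n f)) ∈ Ideal.span (Set.range f) := by
    rcases n with _ | m
    · rw [hθ0, map_zero]; exact zero_mem _
    · obtain ⟨h, hh⟩ := hom m
      obtain ⟨w, hw⟩ := hf m _ (hh (ω (m + 1) f))
      haveI := subsingleton_above (m + 1) f
      have hz : kd Q Q lf (m + 1) w = 0 := by
        rw [show w = (0 : KObj Q Q (fl (m + 1) f) (m + 1 + 1)) from Subsingleton.elim _ _, map_zero]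
      rw [hz] at hw
      rw [sub_eq_zero.1 hw.symm]
      have hmem := Submodule.mem_map_of_mem (f := (τ (m + 1) f).comp h)
        (CanElt.range_kd_le Q Q lf m ⟨ω (m + 1) f, rfl⟩)
      rw [Submodule.map_smul''] at hmem
      have := Submodule.smul_mono le_rfl le_top hmem
      rwa [smul_eq_mul, Ideal.mul_top, hlf] at this
  simp only [θ, LinearMap.sub_apply, LinearMap.comp_apply, LinearMap.smul_apply, LinearMap.id_apply, map_sub,
    map_smul, τ_ω, smul_eq_mul, mul_one] at key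
  rw [φ_ω g n f c, eq_τ_smul n g (wedge g n c), map_smul, map_smul, he] at key
  rw [← sub_sub_cancel ((c.det * e) • τ n f (ψ n (ω n g))) a]
  refine sub_mem (Ideal.mem_sup_right (Ideal.mem_span_singleton.2 ?_)) (Ideal.mem_sup_left key)
  rw [smul_eq_mul, mul_assoc]
  exact dvd_mul_right _ _

theorem det_mul_mem {n : ℕ} (f g : Fin n → Q) (c : Matrix (Fin n) (Fin n) Q) (hc : ∀ i, f i = ∑ j, c i j * g j)
    (j : Fin n) : c.det * g j ∈ Ideal.span (Set.range f) := by
  have h : c.mulVec g = f := funext fun i => (hc i).symm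
  have h2 : c.adjugate.mulVec f = c.det • g := by
    rw [← h, Matrix.mulVec_mulVec, Matrix.adjugate_mul, Matrix.smul_mulVec, Matrix.one_mulVec]
  rw [← smul_eq_mul, ← Pi.smul_apply, ← h2]
  simp only [Matrix.mulVec, dotProduct]
  exact Ideal.sum_mem (Ideal.span (Set.range f)) fun i _ =>
    Ideal.mul_mem_left (Ideal.span (Set.range f)) _ (Ideal.subset_span (Set.mem_range_self i))

end Groth.Agent.KoszulColon25
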